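import Cfsg.Agent.Lib.DEightWreath.Model

/-!
# The normal elementary subgroups of order 16 of `D₈ ≀ 2` and its automorphisms
-/

set_option autoImplicit false
set_option synthInstance.maxSize 1024

open Subgroup

namespace Cfsg.Agent.DEightWreath

/-- `{1, r 2}`. -/
abbrev inF (d : D4) : Prop := d = 1 ∨ d = .r 2
/-- The first four-subgroup. -/
abbrev inA (d : D4) : Prop := d = 1 ∨ d = .r 2 ∨ d = .sr 0 ∨ d = .sr 2
/-- The second four-subgroup. -/
abbrev inB (d : D4) : Prop := d = 1 ∨ d = .r 2 ∨ d = .sr 1 ∨ d = .sr 3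
/-- Is a reflection. -/
def isS : D4 → Bool
  | .r _ => false
  | .sr _ => true

namespace W8

/-- Membership in `Φ(D × D)`. -/
abbrev IsF (x : W8) : Prop := x.e = false ∧ inF x.l ∧ inF x.r
/-- Membership in the first normal elementary subgroup of order 16. -/
abbrev IsA (x : W8) : Prop := x.e = false ∧ inA x.l ∧ inA x.r
/-- Membership in the second normal elementary subgroup of order 16. -/
abbrev IsB (x : W8) : Prop := x.e = false ∧ inB x.l ∧ inB x.r

/-- `a` -/
def ga : W8 := ⟨.sr 0, 1, false⟩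
/-- `b` -/
def gb : W8 := ⟨.sr 1, 1, false⟩
/-- `a'` -/
def ga' : W8 := ⟨1, .sr 0, false⟩
/-- `b'` -/
def gb' : W8 := ⟨1, .sr 1, false⟩
/-- the swap -/
def gt : W8 := ⟨1, 1, true⟩
/-- `z` -/
def gz : W8 := ⟨.r 2, 1, false⟩
/-- `z z'` -/
def gw : W8 := ⟨.r 2, .r 2, false⟩

theorem mk_mul (a b c d : D4) (e : Bool) :
    (⟨a, b, false⟩ : W8) * ⟨c, d, e⟩ = ⟨a * c, b * d, e⟩ := by simp [mul_def, sl, sr]

/-- The base group `D × D`. -/
def base : Subgroup W8 where
  carrier := {x | x.e = false}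
  one_mem' := rfl
  mul_mem' {x y} hx hy := by
    simp only [Set.mem_ofPred_eq] at *
    simp [mul_def, hx, hy]
  inv_mem' {x} hx := by
    simp only [Set.mem_ofPred_eq] at *
    simp [inv_def, hx]

/-- A product of two subgroups of `D4` inside the base. -/
def prodSub (P : D4 → Prop) (h1 : P 1) (hm : ∀ a b, P a → P b → P (a * b))
    (hi : ∀ a, P a → P a⁻¹) : Subgroup W8 where
  carrier := {x | x.e = false ∧ P x.l ∧ P x.r}
  one_mem' := ⟨rfl, h1, h1⟩
  mul_mem' {x y} hx hy := by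
    obtain ⟨a, b, e⟩ := x
    obtain ⟨c, d, e'⟩ := y
    obtain ⟨rfl, ha, hb⟩ := hx
    obtain ⟨rfl, hc, hd⟩ := hy
    rw [mk_mul]
    exact ⟨rfl, hm a c ha hc, hm b d hb hd⟩
  inv_mem' {x} hx := by
    obtain ⟨a, b, e⟩ := x
    obtain ⟨rfl, ha, hb⟩ := hx
    exact ⟨rfl, hi a ha, hi b hb⟩

/-- `Φ(D × D)`. -/
def subF : Subgroup W8 := prodSub inF (by decide) (by decide +kernel) (by decide +kernel)
/-- The first normal elementary subgroup of order 16. -/
def subA : Subgroup W8 := prodSub inA (by decide) (by decide +kernel) (by decide +kernel)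
/-- The second normal elementary subgroup of order 16. -/
def subB : Subgroup W8 := prodSub inB (by decide) (by decide +kernel) (by decide +kernel)

theorem mem_base {x : W8} : x ∈ base ↔ x.e = false := Iff.rfl
theorem mem_subF {x : W8} : x ∈ subF ↔ IsF x := Iff.rfl
theorem mem_subA {x : W8} : x ∈ subA ↔ IsA x := Iff.rfl
theorem mem_subB {x : W8} : x ∈ subB ↔ IsB x := Iff.rfl

theorem subA_le_base : subA ≤ base := fun _ h => h.1
theorem subB_le_base : subB ≤ base := fun _ h => h.1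
theorem subF_le_base : subF ≤ base := fun _ h => h.1

theorem conj_subA : ∀ g x : W8, IsA x → IsA (g * x * g⁻¹) := by
  rintro ⟨a, b, e⟩ ⟨c, d, e'⟩ ⟨rfl : e' = false, hc, hd⟩
  have key : ∀ g u : D4, inA u → inA (g * u * g⁻¹) := by decide +kernel
  cases e
  · simpa [IsA, IsB, mul_def, inv_def, sl, sr] using And.intro (key a c hc) (key b d hd)
  · simpa [IsA, IsB, mul_def, inv_def, sl, sr] using And.intro (key a d hd) (key b c hc)

theorem conj_subB : ∀ g x : W8, IsB x → IsB (g * x * g⁻¹) := by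
  rintro ⟨a, b, e⟩ ⟨c, d, e'⟩ ⟨rfl : e' = false, hc, hd⟩
  have key : ∀ g u : D4, inB u → inB (g * u * g⁻¹) := by decide +kernel
  cases e
  · simpa [IsA, IsB, mul_def, inv_def, sl, sr] using And.intro (key a c hc) (key b d hd)
  · simpa [IsA, IsB, mul_def, inv_def, sl, sr] using And.intro (key a d hd) (key b c hc)

theorem card_prod (P : D4 → Prop) [DecidablePred P] (h1 : P 1) (hm : ∀ a b, P a → P b → P (a * b))
    (hi : ∀ a, P a → P a⁻¹) :
    Nat.card (prodSub P h1 hm hi) =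
      Fintype.card {d : D4 // P d} * Fintype.card {d : D4 // P d} := by
  let e : prodSub P h1 hm hi ≃ {d : D4 // P d} × {d : D4 // P d} :=
    { toFun := fun x => (⟨x.1.l, x.2.2.1⟩, ⟨x.1.r, x.2.2.2⟩)
      invFun := fun p => ⟨⟨p.1.1, p.2.1, false⟩, rfl, p.1.2, p.2.2⟩
      left_inv := by
        rintro ⟨⟨a, b, e⟩, h⟩
        have he : e = false := h.1
        subst he
        rfl
      right_inv := fun _ => rfl }
  rw [Nat.card_congr e, Nat.card_prod, Nat.card_eq_fintype_card]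

theorem card_subA : Nat.card subA = 16 := (card_prod _ _ _ _).trans (by decide +kernel)
theorem card_subB : Nat.card subB = 16 := (card_prod _ _ _ _).trans (by decide +kernel)
theorem card_subF : Nat.card subF = 4 := (card_prod _ _ _ _).trans (by decide +kernel)

theorem card_base : Nat.card base = 64 := by
  let e : base ≃ D4 × D4 :=
    { toFun := fun x => (x.1.l, x.1.r)
      invFun := fun p => ⟨⟨p.1, p.2, false⟩, rfl⟩
      left_inv := by rintro ⟨⟨a, b, e⟩, (rfl : e = false)⟩; rfl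
      right_inv := fun _ => rfl }
  rw [Nat.card_congr e, Nat.card_prod, DihedralGroup.nat_card]

theorem involution_cases : ∀ x : W8, x * x = 1 →
    (∀ g ∈ [1, ga, gb, ga', gb', gt], ∀ h ∈ [1, ga, gb, ga', gb', gt],
      (g * x * g⁻¹) * (h * x * h⁻¹) = (h * x * h⁻¹) * (g * x * g⁻¹)) →
    IsA x ∨ IsB x := by decide +kernel

theorem normal_sixteen {V : Subgroup W8} (hn : V.Normal) (hc : ∀ a ∈ V, ∀ b ∈ V, a * b = b * a)
    (he : ∀ a ∈ V, a * a = 1) (h16 : Nat.card V = 16) : V = subA ∨ V = subB := by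
  have hV : ∀ x ∈ V, IsA x ∨ IsB x := fun x hx => involution_cases x (he x hx) fun g _ h _ =>
    hc _ (hn.conj_mem x hx g) _ (hn.conj_mem x hx h)
  by_cases hA : V ≤ subA
  · exact Or.inl (eq_of_le_of_card_ge hA (by rw [card_subA, h16]))
  refine Or.inr (eq_of_le_of_card_ge (fun y hy => ?_) (by rw [card_subB, h16]))
  obtain ⟨x, hx, hxA⟩ := SetLike.not_le_iff_exists.1 hA
  have hxB : x ∈ subB := (hV x hx).resolve_left hxA
  by_contra hyB
  have hyA : y ∈ subA := (hV y hy).resolve_right hyB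
  rcases hV _ (mul_mem hx hy) with h | h
  · exact hxA ((subA.mul_mem_cancel_right hyA).1 h)
  · exact hyB ((subB.mul_mem_cancel_left hxB).1 h)

theorem subA_ne_subB : subA ≠ subB := by
  intro h
  have h1 : IsA ga := by decide
  have h2 : ga ∈ subB := h ▸ (h1 : ga ∈ subA)
  rw [mem_subB] at h2
  revert h2
  decide

theorem split_base : ∀ x ∈ base, ∃ y ∈ subA, ∃ z ∈ subB, ∃ y' ∈ subA, x = y * z * y' := by
  have key : ∀ d : D4, ∃ u v w, inA u ∧ inB v ∧ inA w ∧ d = u * v * w := by decide +kernel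
  rintro ⟨a, b, e⟩ (rfl : e = false)
  obtain ⟨u, v, w, hu, hv, hw, rfl⟩ := key a
  obtain ⟨u', v', w', hu', hv', hw', rfl⟩ := key b
  exact ⟨⟨u, u', false⟩, ⟨rfl, hu, hu'⟩, ⟨v, v', false⟩, ⟨rfl, hv, hv'⟩, ⟨w, w', false⟩,
    ⟨rfl, hw, hw'⟩, by rw [mk_mul, mk_mul]⟩

theorem commute_iff {u v : W8} (hu : IsA u) (hv : IsB v) :
    u * v = v * u ↔ (isS u.l && isS v.l) = false ∧ (isS u.r && isS v.r) = false := by
  have key : ∀ p q : D4, inA p → inB q → (p * q = q * p ↔ (isS p && isS q) = false) := by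
    decide +kernel
  obtain ⟨a, b, e⟩ := u
  obtain ⟨c, d, e'⟩ := v
  obtain ⟨rfl, ha, hb⟩ := hu
  obtain ⟨rfl, hc, hd⟩ := hv
  simp [mul_def, sl, sr, key a c ha hc, key b d hb hd]

/-- Congruence modulo `Φ(D × D)`. -/
abbrev Near (x g : W8) : Prop := IsF (g⁻¹ * x)

theorem near_iff : ∀ x : W8,
    (IsA x → (Near x ga ↔ isS x.l = true ∧ isS x.r = false)) ∧
    (IsA x → (Near x ga' ↔ isS x.l = false ∧ isS x.r = true)) ∧
    (IsB x → (Near x gb ↔ isS x.l = true ∧ isS x.r = false)) ∧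
    (IsB x → (Near x gb' ↔ isS x.l = false ∧ isS x.r = true)) := by decide +kernel

theorem parity {u u' v v' : W8} (hu : IsA u) (hu' : IsA u') (hv : IsB v) (hv' : IsB v')
    (h1 : u * v ≠ v * u) (h2 : u * v' = v' * u) (h3 : u' * v = v * u') (h4 : u' * v' ≠ v' * u') :
    (Near u ga ∧ Near u' ga' ∧ Near v gb ∧ Near v' gb') ∨
      (Near u ga' ∧ Near u' ga ∧ Near v gb' ∧ Near v' gb) := by
  rw [ne_eq, commute_iff hu hv] at h1
  rw [commute_iff hu hv'] at h2
  rw [commute_iff hu' hv] at h3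
  rw [ne_eq, commute_iff hu' hv'] at h4
  rw [(near_iff u).1 hu, (near_iff u').2.1 hu', (near_iff v).2.2.1 hv, (near_iff v').2.2.2 hv',
    (near_iff u).2.1 hu, (near_iff u').1 hu', (near_iff v).2.2.2 hv, (near_iff v').2.2.1 hv']
  revert h1 h2 h3 h4
  generalize isS u.l = a
  generalize isS u.r = b
  generalize isS u'.l = c
  generalize isS u'.r = d
  generalize isS v.l = f
  generalize isS v.r = g
  generalize isS v'.l = h
  generalize isS v'.r = k
  revert a b c d f g h k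
  decide

/-- The images of `a, a', b, b'` agree with their sources modulo `Φ(D × D)`. -/
structure FixQ (φ : W8 ≃* W8) : Prop where
  ha : Near (φ ga) ga
  ha' : Near (φ ga') ga'
  hb : Near (φ gb) gb
  hb' : Near (φ gb') gb'

/-- `φ` interchanges the two normal elementary subgroups, `a ↔ b'` and `a' ↔ b`. -/
structure SwapQ (φ : W8 ≃* W8) : Prop where
  ha : Near (φ ga) gb'
  ha' : Near (φ ga') gb
  hb : Near (φ gb) ga'
  hb' : Near (φ gb') ga

/-- `φ` fixes the first normal elementary subgroup. -/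
def FixA (φ : W8 ≃* W8) : Prop := subA.map φ.toMonoidHom = subA

theorem map_image_cases (φ : W8 ≃* W8) (V : Subgroup W8) (hV : V = subA ∨ V = subB) :
    V.map φ.toMonoidHom = subA ∨ V.map φ.toMonoidHom = subB := by
  have hcomm : ∀ W : Subgroup W8, W = subA ∨ W = subB →
      (∀ a ∈ W, ∀ b ∈ W, a * b = b * a) ∧ (∀ a ∈ W, a * a = 1) ∧ W.Normal ∧ Nat.card W = 16 := by
    have keyA : ∀ p q : D4, inA p → inA q → p * q = q * p ∧ p * p = 1 := by decide +kernel
    have keyB : ∀ p q : D4, inB p → inB q → p * q = q * p ∧ p * p = 1 := by decide +kernel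
    rintro W (rfl | rfl)
    · refine ⟨?_, ?_, ⟨fun x hx g => conj_subA g x hx⟩, card_subA⟩
      · rintro ⟨a, b, e⟩ ⟨rfl, ha, hb⟩ ⟨c, d, e'⟩ ⟨rfl, hc, hd⟩
        rw [mk_mul, mk_mul, (keyA a c ha hc).1, (keyA b d hb hd).1]
      · rintro ⟨a, b, e⟩ ⟨rfl, ha, hb⟩
        rw [mk_mul, (keyA a a ha ha).2, (keyA b b hb hb).2]
        rfl
    · refine ⟨?_, ?_, ⟨fun x hx g => conj_subB g x hx⟩, card_subB⟩
      · rintro ⟨a, b, e⟩ ⟨rfl, ha, hb⟩ ⟨c, d, e'⟩ ⟨rfl, hc, hd⟩
        rw [mk_mul, mk_mul, (keyB a c ha hc).1, (keyB b d hb hd).1]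
      · rintro ⟨a, b, e⟩ ⟨rfl, ha, hb⟩
        rw [mk_mul, (keyB a a ha ha).2, (keyB b b hb hb).2]
        rfl
  obtain ⟨h1, h2, h3, h4⟩ := hcomm V hV
  refine normal_sixteen (h3.map _ φ.surjective) ?_ ?_ ?_
  · rintro _ ⟨a, ha, rfl⟩ _ ⟨b, hb, rfl⟩
    rw [← map_mul, h1 a ha b hb, map_mul]
  · rintro _ ⟨a, ha, rfl⟩
    rw [← map_mul, h2 a ha, map_one]
  · rw [card_map_of_injective φ.injective, h4]

theorem aut_cases (φ : W8 ≃* W8) :
    (subA.map φ.toMonoidHom = subA ∧ subB.map φ.toMonoidHom = subB) ∨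
      (subA.map φ.toMonoidHom = subB ∧ subB.map φ.toMonoidHom = subA) := by
  have hinj : subA.map φ.toMonoidHom ≠ subB.map φ.toMonoidHom := fun h =>
    subA_ne_subB (map_injective φ.injective h)
  rcases map_image_cases φ _ (Or.inl rfl) with h | h <;>
    rcases map_image_cases φ _ (Or.inr rfl) with h' | h'
  · exact absurd (h.trans h'.symm) hinj
  · exact Or.inl ⟨h, h'⟩
  · exact Or.inr ⟨h, h'⟩
  · exact absurd (h.trans h'.symm) hinj

theorem map_base (φ : W8 ≃* W8) {x : W8} (hx : x ∈ base) : φ x ∈ base := by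
  obtain ⟨y, hy, z, hz, y', hy', rfl⟩ := split_base x hx
  have hm : ∀ u, u ∈ subA ∨ u ∈ subB → φ u ∈ base := by
    intro u hu
    rcases aut_cases φ with ⟨h1, h2⟩ | ⟨h1, h2⟩ <;> rcases hu with h | h
    · exact subA_le_base (h1 ▸ mem_map_of_mem _ h)
    · exact subB_le_base (h2 ▸ mem_map_of_mem _ h)
    · exact subB_le_base (h1 ▸ mem_map_of_mem _ h)
    · exact subA_le_base (h2 ▸ mem_map_of_mem _ h)
  rw [map_mul, map_mul]
  exact base.mul_mem (base.mul_mem (hm y (Or.inl hy)) (hm z (Or.inr hz))) (hm y' (Or.inl hy'))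

theorem gens_comm : ga * gb ≠ gb * ga ∧ ga * gb' = gb' * ga ∧ ga' * gb = gb * ga' ∧
    ga' * gb' ≠ gb' * ga' := by decide +kernel

/-- Composition with conjugation. -/
theorem conj_near_t : ∀ x, ((Near x ga → Near (gt * x * gt⁻¹) ga') ∧
    (Near x ga' → Near (gt * x * gt⁻¹) ga)) ∧ ((Near x gb → Near (gt * x * gt⁻¹) gb') ∧
    (Near x gb' → Near (gt * x * gt⁻¹) gb)) := by decide +kernel

theorem fixA_cases (φ : W8 ≃* W8) (h : FixA φ) :
    FixQ φ ∨ FixQ (φ.trans (MulAut.conj gt)) := by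
  have hB : subB.map φ.toMonoidHom = subB := by
    rcases aut_cases φ with h' | h'
    · exact h'.2
    · exact absurd (h.symm.trans h'.1) subA_ne_subB
  have hiA : ∀ u, IsA u → IsA (φ u) := fun u hu =>
    (h ▸ mem_map_of_mem φ.toMonoidHom (hu : u ∈ subA) : φ u ∈ subA)
  have hiB : ∀ u, IsB u → IsB (φ u) := fun u hu =>
    (hB ▸ mem_map_of_mem φ.toMonoidHom (hu : u ∈ subB) : φ u ∈ subB)
  have hc : ∀ u v : W8, φ u * φ v = φ v * φ u ↔ u * v = v * u := fun u v => by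
    rw [← map_mul, ← map_mul, φ.injective.eq_iff]
  obtain ⟨c1, c2, c3, c4⟩ := gens_comm
  rcases parity (hiA ga (by decide)) (hiA ga' (by decide)) (hiB gb (by decide))
    (hiB gb' (by decide)) (fun e => c1 ((hc _ _).1 e)) ((hc _ _).2 c2) ((hc _ _).2 c3)
    (fun e => c4 ((hc _ _).1 e)) with h | h
  · exact Or.inl ⟨h.1, h.2.1, h.2.2.1, h.2.2.2⟩
  · exact Or.inr ⟨(conj_near_t _).1.2 h.1, (conj_near_t _).1.1 h.2.1, (conj_near_t _).2.2 h.2.2.1,
      (conj_near_t _).2.1 h.2.2.2⟩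

theorem swap_cases (φ : W8 ≃* W8) (h : ¬ FixA φ) :
    SwapQ φ ∨ SwapQ (φ.trans (MulAut.conj gt)) := by
  obtain ⟨hA, hB⟩ := (aut_cases φ).resolve_left fun h' => h h'.1
  have hiA : ∀ u, IsA u → IsB (φ u) := fun u hu =>
    (hA ▸ mem_map_of_mem φ.toMonoidHom (hu : u ∈ subA) : φ u ∈ subB)
  have hiB : ∀ u, IsB u → IsA (φ u) := fun u hu =>
    (hB ▸ mem_map_of_mem φ.toMonoidHom (hu : u ∈ subB) : φ u ∈ subA)
  have hc : ∀ u v : W8, φ u * φ v = φ v * φ u ↔ u * v = v * u := fun u v => by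
    rw [← map_mul, ← map_mul, φ.injective.eq_iff]
  obtain ⟨c1, c2, c3, c4⟩ := gens_comm
  rcases parity (hiB gb (by decide)) (hiB gb' (by decide)) (hiA ga (by decide))
    (hiA ga' (by decide)) (fun e => c1 ((hc _ _).1 e).symm) ((hc _ _).2 c3.symm)
    ((hc _ _).2 c2.symm) (fun e => c4 ((hc _ _).1 e).symm) with h | h
  · exact Or.inr ⟨(conj_near_t _).2.1 h.2.2.1, (conj_near_t _).2.2 h.2.2.2, (conj_near_t _).1.1 h.1,
      (conj_near_t _).1.2 h.2.1⟩
  · exact Or.inl ⟨h.2.2.1, h.2.2.2, h.1, h.2.1⟩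

end W8

end Cfsg.Agent.DEightWreath
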