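import Cfsg.Agent.Lib.DEightWreath.Swap
import Cfsg.Agent.Lib.Sectional.DirectFour

/-!
# `D₈ ≀ 2` inside a 2-group of sectional rank at most four

`Setup`: an injection `j : W8 →* S`, `S` a 2-group of sectional 2-rank at most 4.
-/

set_option autoImplicit false
set_option synthInstance.maxSize 1024

open Subgroup

namespace Cfsg.Agent.DEightWreath

open W8

variable {S : Type*} [Group S]

theorem subF_central : ∀ f x : W8, IsF f → x.e = false → f * x = x * f := by decide +kernel

theorem subF_square : ∀ f : W8, IsF f → ∃ y : W8, y.e = false ∧ y * y = f := by decide +kernel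

theorem sq_mul_subF : ∀ y f : W8, y.e = false → IsF f → (y * f) * (y * f) = y * y := by decide +kernel

theorem subF_involution : ∀ f : W8, IsF f → f * f = 1 := by decide +kernel

theorem base_words : ∀ x : W8, x.e = false → ∃ i : Fin 2, ∃ k : Fin 4, ∃ l : Fin 2, ∃ m : Fin 4,
    x = ga ^ (i : ℕ) * (ga * gb) ^ (k : ℕ) * ga' ^ (l : ℕ) * (ga' * gb') ^ (m : ℕ) := by
  decide +kernel

theorem base_center : ∀ x : W8, x.e = false → x * ga = ga * x → x * gb = gb * x →
    x * ga' = ga' * x → x * gb' = gb' * x → IsF x := by decide +kernel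

theorem base_sq : ∀ x : W8, x.e = false → IsF (x * x) := by decide +kernel

theorem base_comm : ∀ x y : W8, x.e = false → y.e = false →
    IsF ((x * y * x⁻¹) * y⁻¹) := by decide +kernel

theorem near_mul : ∀ g f : W8, IsF f → Near (g * f) g := fun g f hf => by
  show IsF (g⁻¹ * (g * f))
  rwa [inv_mul_cancel_left]

/-- `g` induces the identity on `B₀ / Φ(B₀)`, for `B₀` the image of the base group. -/
def ActsTrivQ (j : W8 →* S) (g : S) : Prop :=
  ∀ x, x ∈ base → ∃ f ∈ subF, g * j x * g⁻¹ = j (x * f)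

theorem ActsTrivQ.of_gens {j : W8 →* S} {g : S}
    (h : ∀ x ∈ [ga, gb, ga', gb'], ∃ f ∈ subF, g * j x * g⁻¹ = j (x * f)) : ActsTrivQ j g := by
  let Q : Subgroup W8 :=
    { carrier := {x | x ∈ base ∧ ∃ f ∈ subF, g * j x * g⁻¹ = j (x * f)}
      one_mem' := ⟨base.one_mem, 1, subF.one_mem, by simp⟩
      mul_mem' := by
        rintro x y ⟨hx, f, hf, ex⟩ ⟨hy, f', hf', ey⟩
        refine ⟨base.mul_mem hx hy, f * f', subF.mul_mem hf hf', ?_⟩
        rw [show x * y * (f * f') = (x * f) * (y * f') by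
          rw [mul_assoc x f, ← mul_assoc f y, subF_central f y hf hy]; group, map_mul j, map_mul j (x * f),
          ← ex, ← ey]
        group
      inv_mem' := by
        rintro x ⟨hx, f, hf, ex⟩
        refine ⟨base.inv_mem hx, f⁻¹, subF.inv_mem hf, ?_⟩
        have e : x⁻¹ * f⁻¹ = (x * f)⁻¹ := by
          rw [← subF_central f x hf hx, mul_inv_rev]
        rw [e, map_inv, map_inv, ← ex]
        group }
  intro x hx
  have hg : ∀ y ∈ [ga, gb, ga', gb'], y ∈ Q := fun y hy => ⟨by
    rw [mem_base]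
    simp only [List.mem_cons, List.not_mem_nil, or_false] at hy
    rcases hy with rfl | rfl | rfl | rfl <;> rfl, h y hy⟩
  obtain ⟨i, k, l, m, rfl⟩ := base_words x hx
  have h1 := hg ga (by simp)
  have h2 := hg gb (by simp)
  have h3 := hg ga' (by simp)
  have h4 := hg gb' (by simp)
  exact (Q.mul_mem (Q.mul_mem (Q.mul_mem (Q.pow_mem h1 _) (Q.pow_mem (Q.mul_mem h1 h2) _))
    (Q.pow_mem h3 _)) (Q.pow_mem (Q.mul_mem h3 h4) _)).2

theorem ActsTrivQ.fix_subF {j : W8 →* S} {g : S} (h : ActsTrivQ j g) {f : W8} (hf : f ∈ subF) :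
    g * j f * g⁻¹ = j f := by
  obtain ⟨y, hy, rfl⟩ := subF_square f hf
  obtain ⟨f', hf', e⟩ := h y hy
  calc g * j (y * y) * g⁻¹ = (g * j y * g⁻¹) * (g * j y * g⁻¹) := by rw [map_mul]; group
    _ = _ := by rw [e, ← map_mul, sq_mul_subF y f' hy hf']

theorem ActsTrivQ.mul {j : W8 →* S} {g g' : S} (h : ActsTrivQ j g) (h' : ActsTrivQ j g') :
    ActsTrivQ j (g * g') := by
  intro x hx
  obtain ⟨f', hf', e'⟩ := h' x hx
  obtain ⟨f, hf, e⟩ := h (x * f') (base.mul_mem hx (subF_le_base hf'))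
  refine ⟨f' * f, subF.mul_mem hf' hf, ?_⟩
  rw [← mul_assoc x, ← e, ← e']
  group

theorem ActsTrivQ.pow {j : W8 →* S} {g : S} (h : ActsTrivQ j g) : ∀ n, ActsTrivQ j (g ^ n)
  | 0 => fun x _ => ⟨1, subF.one_mem, by simp⟩
  | n + 1 => by rw [pow_succ]; exact (h.pow n).mul h

variable [Finite S] {j : W8 →* S} (hj : Function.Injective j) (h2 : IsPGroup 2 S)
  (hr : Cfsg.SectionalPRankLE 2 4 S)
include hj h2 hr

/-- An element acting trivially on `B₀ / Φ(B₀)` lies in `B₀`. -/
theorem mem_base_of_actsTrivQ {g : S} (h : ActsTrivQ j g) : g ∈ base.map j := by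
  classical
  by_contra hg
  obtain ⟨N, hN⟩ := h2 g
  have hex : ∃ n, g ^ 2 ^ n ∈ base.map j := ⟨N, hN ▸ one_mem _⟩
  set n := Nat.find hex
  have hn := Nat.find_spec hex
  have hn0 : n ≠ 0 := fun e => hg (by
    have := hn
    rwa [show Nat.find hex = 0 from e, pow_zero, pow_one] at this)
  obtain ⟨m, hm⟩ := Nat.exists_eq_succ_of_ne_zero hn0
  have hmn : g ^ 2 ^ m ∉ base.map j :=
    Nat.find_min hex (show m < Nat.find hex by
      rw [show Nat.find hex = m + 1 from hm]; exact m.lt_succ_self)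
  set u := g ^ 2 ^ m
  have hu : ActsTrivQ j u := h.pow _
  have hu2 : u * u ∈ base.map j := by
    have : u * u = g ^ 2 ^ (m + 1) := by rw [← pow_add, pow_succ 2, mul_two]
    rw [this]
    have := hn
    rwa [show Nat.find hex = m + 1 from hm] at this
  obtain ⟨q, hq, hqu⟩ := hu2
  -- `u²` centralises the base
  have hucen : ∀ x, x ∈ base → (u * u) * j x * (u * u)⁻¹ = j x := by
    intro x hx
    obtain ⟨f, hf, e⟩ := hu x hx
    calc (u * u) * j x * (u * u)⁻¹ = u * (u * j x * u⁻¹) * u⁻¹ := by group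
      _ = u * j x * u⁻¹ * (u * j f * u⁻¹) := by
        conv_lhs => rw [e, map_mul]
        group
      _ = j x := by rw [e, hu.fix_subF hf, ← map_mul, mul_assoc, subF_involution f hf, mul_one]
  have hqF : q ∈ subF := by
    have hc : ∀ x, x ∈ base → q * x = x * q := fun x hx => hj (by
      have := hucen x hx
      rw [← hqu, mul_inv_eq_iff_eq_mul] at this
      rw [map_mul, map_mul, this])
    exact base_center q hq (hc _ rfl) (hc _ rfl) (hc _ rfl) (hc _ rfl)
  have hnorm : ∀ x, x ∈ base.map j → u * x * u⁻¹ ∈ base.map j := by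
    rintro _ ⟨x, hx, rfl⟩
    obtain ⟨f, hf, e⟩ := hu x hx
    exact ⟨x * f, base.mul_mem hx (subF_le_base hf), e.symm⟩
  have hnorm' : ∀ x, x ∈ base.map j → u⁻¹ * x * u ∈ base.map j := by
    intro x hx
    have h1 := hnorm x hx
    have hu2' : u * u ∈ base.map j := ⟨q, hq, hqu⟩
    have : u⁻¹ * x * u = (u * u)⁻¹ * (u * x * u⁻¹) * (u * u) := by group
    rw [this]
    exact mul_mem (mul_mem (inv_mem hu2') h1) hu2'
  let L : Subgroup S :=
    { carrier := {x | x ∈ base.map j ∨ u⁻¹ * x ∈ base.map j}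
      one_mem' := Or.inl (one_mem _)
      mul_mem' := by
        rintro x y (hx | hx) (hy | hy)
        · exact Or.inl (mul_mem hx hy)
        · refine Or.inr ?_
          rw [show u⁻¹ * (x * y) = (u⁻¹ * x * u) * (u⁻¹ * y) by group]
          exact mul_mem (hnorm' x hx) hy
        · exact Or.inr (by rw [← mul_assoc]; exact mul_mem hx hy)
        · refine Or.inl ?_
          rw [show x * y = (u * (u⁻¹ * x) * u⁻¹) * ((u * u) * (u⁻¹ * y)) by group]
          exact mul_mem (hnorm _ hx) (mul_mem ⟨q, hq, hqu⟩ hy)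
      inv_mem' := by
        rintro x (hx | hx)
        · exact Or.inl (inv_mem hx)
        · refine Or.inr ?_
          rw [show u⁻¹ * x⁻¹ = (u⁻¹ * (u⁻¹ * x)⁻¹ * u) * (u * u)⁻¹ by group]
          exact mul_mem (hnorm' _ (inv_mem hx)) (inv_mem ⟨q, hq, hqu⟩) }
  have hle : base.map j ≤ L := fun x hx => Or.inl hx
  have huL : u ∈ L := Or.inr (by simp)
  have hFL : subF.map j ≤ L := (map_mono subF_le_base).trans hle
  have hsq : ∀ x ∈ L, x ^ 2 ∈ subF.map j := by
    intro x hx
    rcases hx with ⟨y, hy, rfl⟩ | ⟨y, hy, hyx⟩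
    · exact ⟨y * y, base_sq y hy, by rw [map_mul, pow_two]⟩
    · obtain ⟨f, hf, e⟩ := hu y hy
      have hx' : x = u * j y := by rw [hyx, mul_inv_cancel_left]
      have hyq : (y * f) * q * y ∈ subF := by
        rw [mul_assoc (y * f), subF_central q y hqF hy, ← mul_assoc]
        have h1 : y * f * y = y * y * f := by rw [mul_assoc, subF_central f y hf hy, ← mul_assoc]
        rw [h1]
        exact subF.mul_mem (subF.mul_mem (base_sq y hy) hf) hqF
      refine ⟨_, hyq, ?_⟩
      rw [map_mul, map_mul, ← e, hqu, hx', pow_two]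
      group
  have hcard := Sectional.card_le_of_sectional hr hFL hsq
  rw [card_map_of_injective hj, card_subF] at hcard
  have hlt : base.map j < L := lt_of_le_of_ne hle fun e => hmn (e ▸ huL)
  have hlt' : Nat.card (base.map j) < Nat.card L := by
    refine lt_of_le_of_ne (card_le_of_le hle) fun e => hlt.ne (eq_of_le_of_card_ge hle e.ge)
  rw [card_map_of_injective hj, card_base] at hlt'
  omega

end Cfsg.Agent.DEightWreath
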