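import Cfsg.Agent.EqLemmas
import Mathlib.GroupTheory.SpecificGroups.Dihedral
import Mathlib.GroupTheory.Sylow
import Mathlib.GroupTheory.Perm.Basic
import Mathlib.Data.Fintype.Perm

/-!
# A model of `D₈ ≀ 2`

`W8 = (D × D) ⋊ 2` with `D = DihedralGroup 4`, and its isomorphism with a Sylow 2-subgroup of
`Equiv.Perm (Fin 8)`.
-/

set_option autoImplicit false

namespace Cfsg.Agent.DEightWreath

/-- The dihedral group of order eight. -/
abbrev D4 := DihedralGroup 4

/-- The model of `D₈ ≀ 2`. -/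
@[ext] structure W8 where
  /-- first component -/
  l : D4
  /-- second component -/
  r : D4
  /-- swap -/
  e : Bool
deriving DecidableEq, Fintype

namespace W8

/-- The swap acting on pairs. -/
def sl (e : Bool) (y : W8) : D4 := bif e then y.r else y.l
/-- The swap acting on pairs. -/
def sr (e : Bool) (y : W8) : D4 := bif e then y.l else y.r

instance : One W8 := ⟨⟨1, 1, false⟩⟩
instance : Mul W8 := ⟨fun x y => ⟨x.l * sl x.e y, x.r * sr x.e y, xor x.e y.e⟩⟩
instance : Inv W8 := ⟨fun x => bif x.e then ⟨x.r⁻¹, x.l⁻¹, true⟩ else ⟨x.l⁻¹, x.r⁻¹, false⟩⟩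

theorem one_def : (1 : W8) = ⟨1, 1, false⟩ := rfl

theorem inv_def (x : W8) :
    x⁻¹ = bif x.e then ⟨x.r⁻¹, x.l⁻¹, true⟩ else ⟨x.l⁻¹, x.r⁻¹, false⟩ := rfl

theorem mul_def (x y : W8) : x * y = ⟨x.l * sl x.e y, x.r * sr x.e y, xor x.e y.e⟩ := rfl

instance : Group W8 where
  mul_assoc := by
    rintro ⟨a, b, _ | _⟩ ⟨c, d, _ | _⟩ ⟨f, g, _ | _⟩ <;> simp [mul_def, sl, sr, mul_assoc]
  one_mul := by rintro ⟨a, b, _ | _⟩ <;> simp [one_def, mul_def, sl, sr]
  mul_one := by rintro ⟨a, b, _ | _⟩ <;> simp [one_def, mul_def, sl, sr]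
  inv_mul_cancel := by
    rintro ⟨a, b, _ | _⟩ <;> simp [inv_def, one_def, mul_def, sl, sr]

theorem card : Nat.card W8 = 128 := by
  let e : W8 ≃ D4 × D4 × Bool :=
    { toFun := fun x => (x.l, x.r, x.e)
      invFun := fun p => ⟨p.1, p.2.1, p.2.2⟩
      left_inv := fun _ => rfl
      right_inv := fun _ => rfl }
  rw [Nat.card_congr e, Nat.card_prod, Nat.card_prod, DihedralGroup.nat_card, Nat.card_eq_fintype_card,
    Fintype.card_bool]

end W8

/-- A point permutation representation of `D4` on four points, as functions. -/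
def rhoFun : D4 → Fin 4 → Fin 4
  | .r i, j => (show Fin 4 from i) + j
  | .sr i, j => -((show Fin 4 from i) + j)

theorem rhoFun_mul : ∀ x y j, rhoFun (x * y) j = rhoFun x (rhoFun y j) := by decide +kernel

theorem rhoFun_one : ∀ j, rhoFun 1 j = j := by decide +kernel

theorem rhoFun_inj : ∀ x, rhoFun x 0 = 0 → rhoFun x 1 = 1 → x = 1 := by decide +kernel

/-- The representation on four points. -/
def rho (x : D4) : Equiv.Perm (Fin 4) where
  toFun := rhoFun x
  invFun := rhoFun x⁻¹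
  left_inv j := by rw [← rhoFun_mul, inv_mul_cancel, rhoFun_one]
  right_inv j := by rw [← rhoFun_mul, mul_inv_cancel, rhoFun_one]

/-- The representation on `Fin 4 ⊕ Fin 4`, as functions. -/
def sigmaFun (x : W8) : Fin 4 ⊕ Fin 4 → Fin 4 ⊕ Fin 4
  | .inl j => bif x.e then .inr (rhoFun x.r j) else .inl (rhoFun x.l j)
  | .inr j => bif x.e then .inl (rhoFun x.l j) else .inr (rhoFun x.r j)

theorem sigmaFun_mul (x y : W8) (j : Fin 4 ⊕ Fin 4) :
    sigmaFun (x * y) j = sigmaFun x (sigmaFun y j) := by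
  obtain ⟨a, b, _ | _⟩ := x <;> obtain ⟨c, d, _ | _⟩ := y <;> rcases j with j | j <;>
    simp [sigmaFun, W8.mul_def, W8.sl, W8.sr, rhoFun_mul]

theorem sigmaFun_one (j : Fin 4 ⊕ Fin 4) : sigmaFun 1 j = j := by
  rcases j with j | j <;> show sigmaFun ⟨1, 1, false⟩ _ = _ <;> simp [sigmaFun, rhoFun_one]

/-- The representation on `Fin 4 ⊕ Fin 4`. -/
def sigma : W8 →* Equiv.Perm (Fin 4 ⊕ Fin 4) where
  toFun x :=
    { toFun := sigmaFun x
      invFun := sigmaFun x⁻¹
      left_inv := fun j => by rw [← sigmaFun_mul, inv_mul_cancel, sigmaFun_one]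
      right_inv := fun j => by rw [← sigmaFun_mul, mul_inv_cancel, sigmaFun_one] }
  map_one' := Equiv.ext sigmaFun_one
  map_mul' x y := Equiv.ext fun j => sigmaFun_mul x y j

theorem sigma_injective : Function.Injective sigma := by
  rw [injective_iff_map_eq_one]
  intro x hx
  have h : ∀ j, sigmaFun x j = j := fun j => DFunLike.congr_fun hx j
  have h0 := h (.inl 0)
  have h1 := h (.inl 1)
  have h0' := h (.inr 0)
  have h1' := h (.inr 1)
  obtain ⟨a, b, _ | _⟩ := x <;> simp [sigmaFun] at h0 h1 h0' h1'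
  rw [rhoFun_inj a h0 h1, rhoFun_inj b h0' h1']
  rfl

/-- A group of order 128 embedded in `Perm (Fin 8)` is a Sylow 2-subgroup. -/
theorem exists_sylow_of_card {X : Type*} [Group X] (f : X →* Equiv.Perm (Fin 8))
    (hf : Function.Injective f) (hc : Nat.card X = 128) :
    ∃ T : Sylow 2 (Equiv.Perm (Fin 8)), Nonempty (X ≃* ↥(T : Subgroup (Equiv.Perm (Fin 8)))) := by
  have : Fact (Nat.Prime 2) := ⟨Nat.prime_two⟩
  have hr : Nat.card f.range = 128 := by
    rw [← Nat.card_congr (MonoidHom.ofInjective hf).toEquiv, hc]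
  have hcard : Nat.card f.range = 2 ^ (Nat.card (Equiv.Perm (Fin 8))).factorization 2 := by
    have h : Nat.card (Equiv.Perm (Fin 8)) = 2 ^ 7 * 315 := by
      rw [Nat.card_eq_fintype_card, Fintype.card_perm, Fintype.card_fin]; rfl
    rw [hr, h, Nat.factorization_mul (by norm_num) (by norm_num), Finsupp.add_apply,
      Nat.Prime.factorization_pow Nat.prime_two, Finsupp.single_eq_same,
      Nat.factorization_eq_zero_of_not_dvd (by norm_num : ¬ 2 ∣ 315)]
    norm_num
  exact ⟨Sylow.ofCard f.range hcard, ⟨MonoidHom.ofInjective hf⟩⟩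

/-- A Sylow 2-subgroup of `Perm (Fin 8)` is a copy of `W8`. -/
theorem nonempty_equiv_sylow (T : Sylow 2 (Equiv.Perm (Fin 8))) :
    Nonempty (W8 ≃* ↥(T : Subgroup (Equiv.Perm (Fin 8)))) := by
  have : Fact (Nat.Prime 2) := ⟨Nat.prime_two⟩
  obtain ⟨T₀, ⟨e⟩⟩ := exists_sylow_of_card
    ((finSumFinEquiv (m := 4) (n := 4)).permCongrHom.toMonoidHom.comp sigma)
    ((MulEquiv.injective (finSumFinEquiv (m := 4) (n := 4)).permCongrHom).comp sigma_injective) W8.card
  exact ⟨e.trans (Sylow.equiv T₀ T)⟩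

end Cfsg.Agent.DEightWreath
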