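import Cfsg.Agent.Lib.DEightWreath.Embed
import Mathlib.GroupTheory.Nilpotent

/-!
# The normalizer of `D₈ ≀ 2` in a 2-group of sectional rank at most four
-/

set_option autoImplicit false
set_option synthInstance.maxSize 1024

open Subgroup

namespace Cfsg.Agent.DEightWreath

open W8

variable {S : Type*} [Group S] [Finite S] {j : W8 →* S} (hj : Function.Injective j)

/-- The automorphism of `W8` induced by an element normalising the image. -/
noncomputable def phi (g : S) (hg : g ∈ normalizer (j.range : Set S)) : W8 ≃* W8 :=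
  ((MonoidHom.ofInjective hj).trans (j.range.normalizerMonoidHom ⟨g, hg⟩)).trans
    (MonoidHom.ofInjective hj).symm

omit [Finite S] in
include hj in
theorem phi_spec (g : S) (hg : g ∈ normalizer (j.range : Set S)) (x : W8) :
    j (phi hj g hg x) = g * j x * g⁻¹ := by
  unfold phi
  simp only [MulEquiv.trans_apply]
  exact MonoidHom.apply_ofInjective_symm hj _

omit [Finite S] in
include hj in
theorem phi_mul (p : W8) {g : S} (hg : g ∈ normalizer (j.range : Set S))
    (hpg : j p * g ∈ normalizer (j.range : Set S)) :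
    phi hj (j p * g) hpg = (phi hj g hg).trans (MulAut.conj p) := by
  refine MulEquiv.ext fun x => hj ?_
  rw [phi_spec, MulEquiv.trans_apply, MulAut.conj_apply, map_mul, map_mul, map_inv, phi_spec]
  group

omit [Finite S] in
theorem mem_normalizer_range (p : W8) : j p ∈ normalizer (j.range : Set S) :=
  le_normalizer ⟨p, rfl⟩

variable (h2 : IsPGroup 2 S) (hr : Cfsg.SectionalPRankLE 2 4 S)
include hj h2 hr

theorem mem_base_of_fixQ {g : S} (hg : g ∈ normalizer (j.range : Set S))
    (h : FixQ (phi hj g hg)) : g ∈ base.map j := by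
  refine mem_base_of_actsTrivQ hj h2 hr (ActsTrivQ.of_gens fun x hx => ?_)
  have : Near (phi hj g hg x) x := by
    simp only [List.mem_cons, List.not_mem_nil, or_false] at hx
    rcases hx with rfl | rfl | rfl | rfl
    exacts [h.ha, h.hb, h.ha', h.hb']
  exact ⟨x⁻¹ * phi hj g hg x, this, by rw [mul_inv_cancel_left, phi_spec]⟩

/-- An element normalising `P` and one of its normal elementary subgroups lies in `P`. -/
theorem mem_range_of_fixA {g : S} (hg : g ∈ normalizer (j.range : Set S))
    (h : FixA (phi hj g hg)) : g ∈ j.range := by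
  rcases fixA_cases _ h with h' | h'
  · exact map_le_range _ _ (mem_base_of_fixQ hj h2 hr hg h')
  · rw [← phi_mul hj gt hg (mul_mem (mem_normalizer_range gt) hg)] at h'
    exact (mul_mem_cancel_left (show j gt ∈ j.range from ⟨gt, rfl⟩)).1
      (map_le_range _ _ (mem_base_of_fixQ hj h2 hr _ h'))

theorem center_range_eq {c : S} (hc : ∀ x, c * j x = j x * c) : c = j 1 ∨ c = j gw := by
  have hb : c ∈ base.map j := mem_base_of_actsTrivQ hj h2 hr
    (ActsTrivQ.of_gens fun x _ => ⟨1, subF.one_mem, by rw [mul_one, hc, mul_inv_cancel_right]⟩)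
  obtain ⟨q, hq, rfl⟩ := hb
  have key : ∀ q : W8, q.e = false → q * ga = ga * q → q * gb = gb * q → q * gt = gt * q →
      q = 1 ∨ q = gw := by decide +kernel
  have hq' : ∀ x, q * x = x * q := fun x => hj (by rw [map_mul, map_mul, hc])
  rcases key q hq (hq' _) (hq' _) (hq' _) with rfl | rfl
  · exact Or.inl rfl
  · exact Or.inr rfl

omit hj h2 hr [Finite S] in
theorem gw_central : ∀ x : W8, gw * x = x * gw := by decide +kernel

omit hj hr in
theorem exists_normalizer_outside (V : Subgroup S) (hPV : j.range < V) :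
    ∃ g ∈ V, g ∈ normalizer (j.range : Set S) ∧ g ∉ j.range := by
  have : Fact (Nat.Prime 2) := ⟨Nat.prime_two⟩
  have hnil : Group.IsNilpotent V := (h2.to_subgroup V).isNilpotent
  have hlt : j.range.subgroupOf V < ⊤ := by
    rw [lt_top_iff_ne_top, ne_eq, subgroupOf_eq_top]
    exact not_le_of_gt hPV
  obtain ⟨⟨g, hgV⟩, hg, hgP⟩ :=
    SetLike.exists_of_lt (Group.normalizerCondition_of_isNilpotent _ hlt)
  refine ⟨g, hgV, ?_, hgP⟩
  rw [Subgroup.mem_normalizer_iff]
  intro x
  constructor
  · intro hx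
    exact ((Subgroup.mem_normalizer_iff.1 hg) ⟨x, hPV.le hx⟩).1 hx
  · intro hx
    have hxV : x ∈ V := by
      have := V.mul_mem (V.mul_mem (V.inv_mem hgV) (hPV.le hx)) hgV
      simpa [mul_assoc] using this
    exact ((Subgroup.mem_normalizer_iff.1 hg) ⟨x, hxV⟩).2 hx

/-- A normal elementary subgroup of order 16 of `P` has normalizer `P`. -/
theorem normalizer_eq_range (V : Subgroup S) (hVP : V ≤ j.range)
    (hVn : ∀ g ∈ j.range, ∀ v ∈ V, g * v * g⁻¹ ∈ V) (hVe : ∀ a ∈ V, a * a = 1)
    (hV16 : Nat.card V = 16) (hVc : ∀ a ∈ V, ∀ b ∈ V, a * b = b * a) :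
    normalizer (V : Set S) = j.range := by
  have hle : j.range ≤ normalizer (V : Set S) := by
    intro g hg
    rw [Subgroup.mem_normalizer_iff]
    refine fun v => ⟨hVn g hg v, fun h => ?_⟩
    have := hVn g⁻¹ (inv_mem hg) _ h
    simpa [mul_assoc] using this
  refine (hle.lt_or_eq.resolve_left fun hlt => ?_).symm
  obtain ⟨g, hgV, hg, hgP⟩ := exists_normalizer_outside h2 _ hlt
  set V' := V.comap j
  have hmap : V'.map j = V := map_comap_eq_self hVP
  have hfix : V'.map (phi hj g hg).toMonoidHom = V' := by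
    refine eq_of_le_of_card_ge ?_ (card_map_of_injective (phi hj g hg).injective).ge
    rintro _ ⟨x, hx, rfl⟩
    show j (phi hj g hg x) ∈ V
    rw [phi_spec]
    exact ((Subgroup.mem_normalizer_iff.1 hgV) (j x)).1 hx
  have hcases : V' = subA ∨ V' = subB := normal_sixteen
    ⟨fun x hx p => by
      show j (p * x * p⁻¹) ∈ V
      rw [map_mul, map_mul, map_inv]
      exact hVn _ ⟨p, rfl⟩ _ hx⟩
    (fun a ha b hb => hj (by rw [map_mul, map_mul, hVc _ ha _ hb]))
    (fun a ha => hj (by rw [map_mul, hVe _ ha, map_one]))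
    (by rw [← card_map_of_injective hj, hmap, hV16])
  refine hgP (mem_range_of_fixA hj h2 hr hg ?_)
  rcases hcases with e | e <;> rw [e] at hfix
  · exact hfix
  · rcases aut_cases (phi hj g hg) with h | h
    · exact h.1
    · exact absurd (h.2.symm.trans hfix) subA_ne_subB

theorem mul_mem_range {b g : S} (hb : b ∈ normalizer (j.range : Set S)) (hbP : b ∉ j.range)
    (hg : g ∈ normalizer (j.range : Set S)) (hgP : g ∉ j.range) : b * g ∈ j.range := by
  refine mem_range_of_fixA hj h2 hr (mul_mem hb hg) ?_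
  have h1 : ¬ FixA (phi hj g hg) := fun h => hgP (mem_range_of_fixA hj h2 hr hg h)
  have h3 : ¬ FixA (phi hj b hb) := fun h => hbP (mem_range_of_fixA hj h2 hr hb h)
  obtain ⟨hA1, hB1⟩ := (aut_cases _).resolve_left fun h => h1 h.1
  obtain ⟨hA2, hB2⟩ := (aut_cases _).resolve_left fun h => h3 h.1
  have e : (phi hj (b * g) (mul_mem hb hg)).toMonoidHom =
      (phi hj b hb).toMonoidHom.comp (phi hj g hg).toMonoidHom := by
    refine MonoidHom.ext fun x => hj ?_
    simp only [MonoidHom.comp_apply, MulEquiv.coe_toMonoidHom, phi_spec]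
    group
  show subA.map _ = subA
  rw [e, ← Subgroup.map_map, hA1, hB2]

theorem relIndex_normalizer (hlt : j.range ≠ ⊤) :
    j.range.relIndex (normalizer (j.range : Set S)) = 2 := by
  obtain ⟨g, -, hg, hgP⟩ := exists_normalizer_outside h2 ⊤ hlt.lt_top
  rw [relIndex_eq_two_iff]
  refine ⟨g, hg, fun b hb => ?_⟩
  by_cases hbP : b ∈ j.range
  · exact Or.inr ⟨hbP, fun h => hgP ((mul_mem_cancel_left hbP).1 h)⟩
  · exact Or.inl ⟨mul_mem_range hj h2 hr hb hbP hg hgP, hbP⟩

end Cfsg.Agent.DEightWreath
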