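import Cfsg.Agent.Lib.DEightWreath.Normalizer
import Mathlib.GroupTheory.Perm.ViaEmbedding
import Mathlib.GroupTheory.GroupAction.Quotient

/-!
# `N_S(P) / Z(P)` is again `D₈ ≀ 2`
-/

set_option autoImplicit false
set_option synthInstance.maxSize 1024

open Subgroup

namespace Cfsg.Agent.DEightWreath

open W8

variable {S : Type*} [Group S] [Finite S] {j : W8 →* S} (hj : Function.Injective j)
  (h2 : IsPGroup 2 S) (hr : Cfsg.SectionalPRankLE 2 4 S)

omit [Finite S] in
/-- In a finite group an element mapping a subgroup into itself normalises it. -/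
theorem mem_normalizer_of_conj_mem [Finite S] {H : Subgroup S} {g : S}
    (h : ∀ x ∈ H, g * x * g⁻¹ ∈ H) : g ∈ normalizer (H : Set S) := by
  rw [Subgroup.mem_normalizer_iff]
  intro x
  refine ⟨h x, fun hx => ?_⟩
  obtain ⟨⟨y, hy⟩, he⟩ := (Finite.injective_iff_surjective.1
    (show Function.Injective (fun u : H => (⟨g * u * g⁻¹, h u u.2⟩ : H)) from
      fun u v huv => Subtype.ext (by simpa using congrArg Subtype.val huv))) ⟨_, hx⟩
  have : g * y * g⁻¹ = g * x * g⁻¹ := congrArg Subtype.val he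
  rwa [← (mul_left_cancel (mul_right_cancel this) : y = x)]

theorem diag_conj_gt : ∀ x : W8, IsDiag x → IsDiag (gt * x * gt⁻¹) := by decide +kernel

theorem diag_center_cases : ∀ x : W8, IsDiag x →
    (∀ s ∈ [ga, gb, ga', gb'], IsDiag (x * s * x⁻¹ * s⁻¹)) → x = 1 ∨ x = gw := by decide +kernel

theorem not_near_of_swap : ∀ q : W8, q.e = true → ¬ Near (q * ga * q⁻¹) ga := by decide +kernel

theorem near_of_center_mul : ∀ s ∈ [ga, gb, ga', gb'], Near (1 * s) s ∧ Near (gw * s) s := by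
  decide +kernel

theorem split_diag : ∀ a b : D4, (⟨a, b, false⟩ : W8) = ⟨a * b⁻¹, 1, false⟩ * ⟨b, b, false⟩ := by
  intro a b
  rw [mk_mul, inv_mul_cancel_right, one_mul]

theorem decomp_gt : ∀ x : W8, x.e = true → x = ⟨x.l, x.r, false⟩ * gt := by
  rintro ⟨a, b, e⟩ (rfl : e = true)
  simp [gt, mk_mul]

include hj h2 hr

theorem exists_diagSwap_elem (hlt : j.range ≠ ⊤) :
    ∃ g : S, ∃ hg : g ∈ normalizer (j.range : Set S), g ∉ j.range ∧ DiagSwap (phi hj g hg) ∧
      ∃ q ∈ diag, g * g = j q := by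
  obtain ⟨g₀, -, hg₀, hgP₀⟩ := exists_normalizer_outside h2 ⊤ hlt.lt_top
  obtain ⟨g₁, hg₁, hgP₁, hs⟩ : ∃ g₁ : S, ∃ hg : g₁ ∈ normalizer (j.range : Set S),
      g₁ ∉ j.range ∧ SwapQ (phi hj g₁ hg) := by
    rcases swap_cases _ (fun h => hgP₀ (mem_range_of_fixA hj h2 hr hg₀ h)) with h | h
    · exact ⟨g₀, hg₀, hgP₀, h⟩
    · refine ⟨j gt * g₀, mul_mem (mem_normalizer_range gt) hg₀,
        fun h' => hgP₀ ((mul_mem_cancel_left (show j gt ∈ j.range from ⟨gt, rfl⟩)).1 h'), ?_⟩
      rwa [phi_mul hj gt hg₀]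
  obtain ⟨d, -, hd⟩ := exists_diagSwap hs
  rw [← phi_mul hj d hg₁ (mul_mem (mem_normalizer_range d) hg₁)] at hd
  set g := j d * g₁ with hg_def
  have hg : g ∈ normalizer (j.range : Set S) := mul_mem (mem_normalizer_range d) hg₁
  have hgP : g ∉ j.range := fun h =>
    hgP₁ ((mul_mem_cancel_left (show j d ∈ j.range from ⟨d, rfl⟩)).1 h)
  obtain ⟨q, hq⟩ := mul_mem_range hj h2 hr hg hgP hg hgP
  refine ⟨g, hg, hgP, hd, q, ?_, hq.symm⟩
  set φ := phi hj g hg
  have hsq : ∀ x, φ (φ x) = q * x * q⁻¹ := fun x => hj (by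
    rw [phi_spec, phi_spec, map_mul, map_mul, map_inv, hq]; group)
  have hfix : φ q = q := hj (by rw [phi_spec, hq]; group)
  have hqb : q ∈ base := by
    rw [mem_base]
    by_contra he
    rw [Bool.not_eq_false] at he
    refine not_near_of_swap q he ?_
    rw [← hsq]
    obtain ⟨f₁, hf₁, e₁⟩ := near_eq hd.ha
    obtain ⟨f₄, hf₄, e₄⟩ := near_eq hd.hb'
    obtain ⟨y, hy, rfl⟩ := subF_square f₁ hf₁
    rw [e₁, map_mul, map_mul, e₄]
    have : IsF (f₄ * (φ y * φ y)) :=
      subF.mul_mem hf₄ (base_sq _ (map_base φ (show y ∈ base from hy)))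
    rw [mul_assoc]
    exact near_mul _ _ this
  exact hd.sq_mem_diag hqb hfix hsq

theorem quotient_equiv (hlt : j.range ≠ ⊤) {Z : Subgroup S} (hZ : ∀ z, z ∈ Z ↔ z = 1 ∨ z = j gw)
    [hn : (Z.subgroupOf (normalizer (j.range : Set S))).Normal] :
    ∃ T : Sylow 2 (Equiv.Perm (Fin 8)),
      Nonempty (↥(normalizer (j.range : Set S)) ⧸ Z.subgroupOf (normalizer (j.range : Set S)) ≃*
        ↥(T : Subgroup (Equiv.Perm (Fin 8)))) := by
  classical
  set N := normalizer (j.range : Set S) with hN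
  obtain ⟨g, hg, hgP, hd, q, hq, hgg⟩ := exists_diagSwap_elem hj h2 hr hlt
  set φ := phi hj g hg
  set D0 := diag.map j
  set M := normalizer (D0 : Set S)
  have hgM : g ∈ M := mem_normalizer_of_conj_mem (by
    rintro _ ⟨x, hx, rfl⟩
    exact ⟨φ x, hd.map_diag hx, phi_spec hj g hg x⟩)
  have htM : j gt ∈ M := mem_normalizer_of_conj_mem (by
    rintro _ ⟨x, hx, rfl⟩
    exact ⟨gt * x * gt⁻¹, diag_conj_gt x hx, by simp⟩)
  have hD0M : D0 ≤ M := le_normalizer
  have : (D0.subgroupOf M).Normal := inferInstanceAs ((D0.subgroupOf (normalizer (D0 : Set S))).Normal)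
  set π := QuotientGroup.mk' (D0.subgroupOf M)
  set G' := π ⟨g, hgM⟩
  set T' := π ⟨j gt, htM⟩
  have hπ : ∀ u : M, (u : S) ∈ D0 → π u = 1 := fun u hu =>
    (QuotientGroup.eq_one_iff u).2 hu
  have hG2 : G' * G' = 1 := by
    rw [← map_mul]; exact hπ _ ⟨q, hq, hgg.symm⟩
  have hT2 : T' * T' = 1 := by
    rw [← map_mul]; exact hπ _ ⟨1, diag.one_mem, by
      show j 1 = j gt * j gt
      rw [← map_mul, gt_conj.2.2.2.2]⟩
  have hGT : Commute G' T' := by
    have h : G' * T' * G'⁻¹ * T'⁻¹ = 1 := by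
      rw [← map_mul, ← map_inv, ← map_mul, ← map_inv, ← map_mul]
      refine hπ _ ⟨φ gt * gt⁻¹, hd.map_gt, ?_⟩
      show j (φ gt * gt⁻¹) = g * j gt * g⁻¹ * (j gt)⁻¹
      rw [map_mul, phi_spec, map_inv]
    show G' * T' = T' * G'
    exact mul_inv_eq_iff_eq_mul.1 (mul_inv_eq_one.1 h)
  let C : Subgroup (M ⧸ D0.subgroupOf M) :=
    { carrier := {m | ∃ i k : ℕ, m = G' ^ i * T' ^ k}
      one_mem' := ⟨0, 0, by simp⟩
      mul_mem' := by
        rintro _ _ ⟨i, k, rfl⟩ ⟨i', k', rfl⟩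
        refine ⟨i + i', k + k', ?_⟩
        rw [pow_add, pow_add, mul_assoc, ← mul_assoc (T' ^ k), ((hGT.pow_pow i' k).symm).eq]
        group
      inv_mem' := by
        rintro _ ⟨i, k, rfl⟩
        refine ⟨i, k, ?_⟩
        rw [mul_inv_rev, ← inv_pow, ← inv_pow, inv_eq_of_mul_eq_one_right hG2,
          inv_eq_of_mul_eq_one_right hT2, (hGT.pow_pow i k).symm.eq] }
  set H0 := (C.comap π).map M.subtype
  have hgH : g ∈ H0 := ⟨⟨g, hgM⟩, ⟨1, 0, by simp [G']⟩, rfl⟩
  have htH : j gt ∈ H0 := ⟨⟨_, htM⟩, ⟨0, 1, by simp [T']⟩, rfl⟩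
  have hDH : D0 ≤ H0 := fun u hu => ⟨⟨u, hD0M hu⟩, ⟨0, 0, by rw [hπ _ hu]; simp⟩, rfl⟩
  have hHB : ∀ s ∈ H0, s ∈ base.map j → s ∈ D0 := by
    rintro _ ⟨u, ⟨i, k, hik⟩, rfl⟩ hB
    obtain ⟨x, hx, hxu⟩ := hB
    have key : ∀ i k : ℕ, i < 2 → k < 2 → π u = G' ^ i * T' ^ k → (u : S) ∈ D0 := by
      intro i k hi hk h
      have h' : π u = π (⟨g, hgM⟩ ^ i * ⟨j gt, htM⟩ ^ k) := by
        rw [h, map_mul, map_pow, map_pow]
      obtain ⟨w, hw, hwu⟩ : ∃ w ∈ diag, (u : S) * j w = g ^ i * j gt ^ k := by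
        have := QuotientGroup.eq.1 h'
        obtain ⟨w, hw, he⟩ := (mem_subgroupOf.1 this)
        refine ⟨w, hw, ?_⟩
        rw [he]; simp
      interval_cases i <;> interval_cases k
      · exact ⟨w⁻¹, diag.inv_mem hw, by
          rw [map_inv]; exact (eq_inv_of_mul_eq_one_left (by simpa using hwu)).symm⟩
      · exfalso
        rw [pow_zero, one_mul, pow_one, ← (show j x = (u : S) from hxu), ← map_mul] at hwu
        have hb : x * w ∈ base := base.mul_mem hx hw.1
        rw [hj hwu, mem_base] at hb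
        exact absurd hb (by decide)
      · exfalso
        rw [pow_one, pow_zero, mul_one, ← (show j x = (u : S) from hxu), ← map_mul] at hwu
        exact hgP ⟨_, hwu⟩
      · exfalso
        rw [pow_one, pow_one, ← (show j x = (u : S) from hxu), ← map_mul] at hwu
        exact hgP ((mul_mem_cancel_right (show j gt ∈ j.range from ⟨gt, rfl⟩)).1 ⟨_, hwu⟩)
    have hred : ∀ (m : M ⧸ D0.subgroupOf M) (n : ℕ), m * m = 1 → m ^ n = m ^ (n % 2) := fun m n h => by
      conv_lhs => rw [← Nat.mod_add_div n 2, pow_add, pow_mul, pow_two, h, one_pow, mul_one]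
    exact key (i % 2) (k % 2) (Nat.mod_lt _ (by norm_num)) (Nat.mod_lt _ (by norm_num))
      (by rw [hik, ← hred _ _ hG2, ← hred _ _ hT2])
  -- `N = B₀ H₀`
  have hdec : ∀ n ∈ N, ∃ a : D4, (j ⟨a, 1, false⟩)⁻¹ * n ∈ H0 := by
    have hbase : ∀ (a b : D4) (s : S), s ∈ H0 →
        (j (⟨a * b⁻¹, 1, false⟩ : W8))⁻¹ * (j ⟨a, b, false⟩ * s) ∈ H0 := fun a b s hs => by
      rw [split_diag a b, map_mul, mul_assoc, inv_mul_cancel_left]
      exact mul_mem (hDH ⟨_, ⟨rfl, rfl⟩, rfl⟩) hs
    have hP : ∀ (p : W8) (s : S), s ∈ H0 →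
        ∃ a : D4, (j ⟨a, 1, false⟩)⁻¹ * (j p * s) ∈ H0 := by
      rintro ⟨a, b, _ | _⟩ s hs
      · exact ⟨_, hbase a b s hs⟩
      · refine ⟨a * b⁻¹, ?_⟩
        rw [decomp_gt ⟨a, b, true⟩ rfl, map_mul, mul_assoc]
        exact hbase a b _ (mul_mem htH hs)
    intro n hn
    by_cases hnP : n ∈ j.range
    · obtain ⟨p, rfl⟩ := hnP
      simpa using hP p 1 (one_mem _)
    · obtain ⟨p, hp⟩ := mul_mem_range hj h2 hr hn hnP hg hgP
      have := hP p g⁻¹ (inv_mem hgH)
      rwa [hp, mul_inv_cancel_right] at this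
  set H1 := H0.subgroupOf N with hH1
  have hjN : ∀ x : W8, j x ∈ N := mem_normalizer_range
  have hsurj : Function.Surjective
      (fun a : D4 => ((⟨_, hjN ⟨a, 1, false⟩⟩ : N) : N ⧸ H1)) := fun c =>
    QuotientGroup.induction_on c fun n => by
      obtain ⟨a, ha⟩ := hdec n n.2
      exact ⟨a, QuotientGroup.eq.2 ha⟩
  have h8 : Nat.card (N ⧸ H1) ≤ 8 :=
    (Nat.card_le_card_of_surjective _ hsurj).trans_eq DihedralGroup.nat_card
  let emb : N ⧸ H1 ↪ Fin 8 :=
    (Finite.equivFin (N ⧸ H1)).toEmbedding.trans (Fin.castLEEmb h8)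
  let f : N →* Equiv.Perm (Fin 8) :=
    (Equiv.Perm.viaEmbeddingHom emb).comp (MulAction.toPermHom N (N ⧸ H1))
  have hker : f.ker = Z.subgroupOf N := by
    have e : f.ker = H1.normalCore := by
      rw [normalCore_eq_ker]
      ext n
      simp only [f, MonoidHom.mem_ker, MonoidHom.comp_apply]
      exact (injective_iff_map_eq_one' _).1 (Equiv.Perm.viaEmbeddingHom_injective emb) _
    rw [e]
    refine le_antisymm (fun k hk => ?_) ((normal_le_normalCore).2 fun z hz => ?_)
    · set K := H1.normalCore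
      have hKH : ∀ u : N, u ∈ K → (u : S) ∈ H0 := fun u hu => normalCore_le H1 hu
      have hB0 : ∀ u : N, u ∈ K → (u : S) ∈ base.map j → (u : S) = j 1 ∨ (u : S) = j gw := by
        intro u hu hub
        obtain ⟨x, hx, hxu⟩ := hHB _ (hKH u hu) hub
        have hx' := diag_center_cases x hx fun s hs => by
          have hsb : s.e = false := by
            simp only [List.mem_cons, List.not_mem_nil, or_false] at hs
            rcases hs with rfl | rfl | rfl | rfl <;> rfl
          have hmem : u * (⟨j s, hjN s⟩ : N) * u⁻¹ * (⟨j s, hjN s⟩ : N)⁻¹ ∈ K := by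
            rw [mul_assoc u, mul_assoc]
            exact K.mul_mem hu ((normalCore_normal H1).conj_mem _ (K.inv_mem hu) _)
          have h1 := hKH _ hmem
          have h2' : ((u * (⟨j s, hjN s⟩ : N) * u⁻¹ * (⟨j s, hjN s⟩ : N)⁻¹ : N) : S) =
              j (x * s * x⁻¹ * s⁻¹) := by
            simp [hxu]
          rw [h2'] at h1
          obtain ⟨y, hy, hyx⟩ := hHB _ h1 ⟨_, base.mul_mem (base.mul_mem (base.mul_mem hx.1 hsb)
            (base.inv_mem hx.1)) (base.inv_mem hsb), rfl⟩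
          rw [← hj hyx]
          exact hy
        rcases hx' with rfl | rfl
        · exact Or.inl hxu.symm
        · exact Or.inr hxu.symm
      have hkb : (k : S) ∈ base.map j := by
        refine mem_base_of_fixQ hj h2 hr k.2 ?_
        have key : ∀ s ∈ [ga, gb, ga', gb'], Near (phi hj k k.2 s) s := by
          intro s hs
          have hsb : s ∈ base := by
            rw [mem_base]
            simp only [List.mem_cons, List.not_mem_nil, or_false] at hs
            rcases hs with rfl | rfl | rfl | rfl <;> rfl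
          set u : N := k * (⟨j s, hjN s⟩ : N) * k⁻¹ * (⟨j s, hjN s⟩ : N)⁻¹
          have hu : u ∈ K := by
            show k * _ * k⁻¹ * _ ∈ K
            rw [mul_assoc k, mul_assoc]
            exact K.mul_mem hk ((normalCore_normal H1).conj_mem _ (K.inv_mem hk) _)
          have hue : (u : S) = j (phi hj k k.2 s * s⁻¹) := by
            rw [map_mul, phi_spec, map_inv]
            simp [u]
          have hc := hB0 u hu (hue ▸ ⟨_, base.mul_mem (map_base _ hsb) (base.inv_mem hsb), rfl⟩)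
          rw [hue] at hc
          rcases hc with hc | hc <;>
          · have e := mul_inv_eq_iff_eq_mul.1 (hj hc)
            rw [e]
            first | exact (near_of_center_mul s hs).1 | exact (near_of_center_mul s hs).2
        exact ⟨key _ (by simp), key _ (by simp), key _ (by simp), key _ (by simp)⟩
      rw [mem_subgroupOf, hZ]
      simpa using hB0 k hk hkb
    · show (z : S) ∈ H0
      rcases (hZ _).1 (mem_subgroupOf.1 hz) with h | h <;> rw [h]
      · exact one_mem _
      · exact hDH ⟨gw, ⟨rfl, rfl⟩, rfl⟩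
  have hcard : Nat.card f.range = 128 := by
    have hjle : j.range ≤ N := le_normalizer
    have h1 : Nat.card N = 256 := by
      have h := (j.range.subgroupOf N).card_mul_index
      rw [Nat.card_congr (subgroupOfEquivOfLe hjle).toEquiv,
        ← Nat.card_congr (MonoidHom.ofInjective hj).toEquiv, W8.card] at h
      change 128 * j.range.relIndex N = _ at h
      rw [relIndex_normalizer hj h2 hr hlt] at h
      exact h.symm
    have hZN : Z ≤ N := fun z hz => by
      rcases (hZ z).1 hz with rfl | rfl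
      · exact one_mem _
      · exact hjN gw
    have hZc : Nat.card Z = 2 := by
      have hset : (Z : Set S) = {1, j gw} := Set.ext fun z => by simp [hZ]
      have hne : (1 : S) ≠ j gw := fun e =>
        absurd (hj ((map_one j).trans e)) (by decide)
      change Nat.card (Z : Set S) = 2
      rw [Nat.card_coe_set_eq, hset, Set.ncard_pair hne]
    have h := f.ker.card_mul_index
    rw [index_ker, hker, Nat.card_congr (subgroupOfEquivOfLe hZN).toEquiv, hZc, h1] at h
    omega
  obtain ⟨T, ⟨e⟩⟩ := exists_sylow_of_card f.range.subtype f.range.subtype_injective hcard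
  exact ⟨T, ⟨(QuotientGroup.quotientMulEquivOfEq hker.symm).trans
    ((QuotientGroup.quotientKerEquivRange f).trans e)⟩⟩

end Cfsg.Agent.DEightWreath
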