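import Cfsg.Agent.Lib.DEightWreath.Aut

/-!
# Automorphisms of `D₈ ≀ 2` interchanging the two normal elementary subgroups of order 16
-/

set_option autoImplicit false
set_option synthInstance.maxSize 1024

open Subgroup

namespace Cfsg.Agent.DEightWreath.W8

/-- Membership in the diagonal of `D × D`. -/
abbrev IsDiag (x : W8) : Prop := x.e = false ∧ x.l = x.r

/-- The diagonal of `D × D`. -/
def diag : Subgroup W8 where
  carrier := {x | x.e = false ∧ x.l = x.r}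
  one_mem' := ⟨rfl, rfl⟩
  mul_mem' {x y} hx hy := by
    obtain ⟨a, b, e⟩ := x
    obtain ⟨c, d, e'⟩ := y
    obtain ⟨rfl, rfl : a = b⟩ := hx
    obtain ⟨rfl, rfl : c = d⟩ := hy
    rw [mk_mul]
    exact ⟨rfl, rfl⟩
  inv_mem' {x} hx := by
    obtain ⟨a, b, e⟩ := x
    obtain ⟨rfl, rfl : a = b⟩ := hx
    exact ⟨rfl, rfl⟩

theorem mem_diag {x : W8} : x ∈ diag ↔ IsDiag x := Iff.rfl

/-- `z'` -/
def gz' : W8 := ⟨1, .r 2, false⟩

theorem near_eq {x g : W8} (h : Near x g) : ∃ f, IsF f ∧ x = g * f :=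
  ⟨g⁻¹ * x, h, (mul_inv_cancel_left g x).symm⟩

theorem exists_adjust : ∀ f₁ : W8, IsF f₁ → ∀ f₂ : W8, IsF f₂ → ∀ f₃ : W8, IsF f₃ →
    ∀ f₄ : W8, IsF f₄ → ∃ d ∈ [1, ga, gb, ga * gb],
      IsDiag (d * ((gb' * f₁) * (gb * f₂)) * d⁻¹) ∧
      IsDiag (d * ((ga' * f₃) * (ga * f₄)) * d⁻¹) := by decide +kernel

theorem near_conj : ∀ x : W8, ∀ d ∈ [1, ga, gb, ga * gb],
    (Near x ga → Near (d * x * d⁻¹) ga) ∧ (Near x ga' → Near (d * x * d⁻¹) ga') ∧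
    (Near x gb → Near (d * x * d⁻¹) gb) ∧ (Near x gb' → Near (d * x * d⁻¹) gb') := by decide +kernel

/-- An automorphism interchanging the two subgroups and preserving the diagonal. -/
structure DiagSwap (φ : W8 ≃* W8) : Prop extends SwapQ φ where
  hX : IsDiag (φ (ga * ga'))
  hY : IsDiag (φ (gb * gb'))

theorem exists_diagSwap {φ : W8 ≃* W8} (h : SwapQ φ) :
    ∃ d ∈ base, DiagSwap (φ.trans (MulAut.conj d)) := by
  obtain ⟨f₁, hf₁, e₁⟩ := near_eq h.ha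
  obtain ⟨f₂, hf₂, e₂⟩ := near_eq h.ha'
  obtain ⟨f₃, hf₃, e₃⟩ := near_eq h.hb
  obtain ⟨f₄, hf₄, e₄⟩ := near_eq h.hb'
  obtain ⟨d, hd, h1, h2⟩ := exists_adjust f₁ hf₁ f₂ hf₂ f₃ hf₃ f₄ hf₄
  have hdb : d ∈ base := by
    simp only [List.mem_cons, List.not_mem_nil, or_false] at hd
    rcases hd with rfl | rfl | rfl | rfl <;> rw [mem_base] <;> decide +kernel
  refine ⟨d, hdb, ⟨⟨(near_conj _ d hd).2.2.2 h.ha, (near_conj _ d hd).2.2.1 h.ha',
    (near_conj _ d hd).2.1 h.hb, (near_conj _ d hd).1 h.hb'⟩, ?_, ?_⟩⟩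
  · show IsDiag (d * φ (ga * ga') * d⁻¹)
    rw [map_mul, e₁, e₂]; exact h1
  · show IsDiag (d * φ (gb * gb') * d⁻¹)
    rw [map_mul, e₃, e₄]; exact h2

theorem diag_words : ∀ x : W8, IsDiag x → ∃ i : Fin 2, ∃ j : Fin 4,
    x = (ga * ga') ^ (i : ℕ) * ((ga * ga') * (gb * gb')) ^ (j : ℕ) := by decide +kernel

theorem DiagSwap.map_diag {φ : W8 ≃* W8} (h : DiagSwap φ) {x : W8} (hx : x ∈ diag) :
    φ x ∈ diag := by
  obtain ⟨i, j, rfl⟩ := diag_words x hx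
  simp only [map_mul, map_pow]
  have h1 : φ ga * φ ga' ∈ diag := by rw [← map_mul]; exact h.hX
  have h2 : φ gb * φ gb' ∈ diag := by rw [← map_mul]; exact h.hY
  exact mul_mem (pow_mem h1 _) (pow_mem (mul_mem h1 h2) _)

theorem gz_eq : gz = (ga * gb) * (ga * gb) := by decide +kernel

theorem near_sq : ∀ f₁ : W8, IsF f₁ → ∀ f₂ : W8, IsF f₂ →
    (gb' * f₁ * (ga' * f₂)) * (gb' * f₁ * (ga' * f₂)) = gz' := by decide +kernel

theorem SwapQ.map_gz {φ : W8 ≃* W8} (h : SwapQ φ) : φ gz = gz' := by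
  obtain ⟨f₁, hf₁, e₁⟩ := near_eq h.ha
  obtain ⟨f₂, hf₂, e₂⟩ := near_eq h.hb
  rw [gz_eq, map_mul, map_mul, e₁, e₂]
  exact near_sq f₁ hf₁ f₂ hf₂

theorem gt_conj : gt * ga * gt⁻¹ = ga' ∧ gt * ga' * gt⁻¹ = ga ∧ gt * gb * gt⁻¹ = gb' ∧
    gt * gb' * gt⁻¹ = gb ∧ gt * gt = 1 := by decide +kernel

theorem swap_image_t₁ : ∀ f₁ : W8, IsF f₁ → ∀ f₂ : W8, IsF f₂ →
    IsDiag (gb' * f₁ * (gb * f₂)) → ∀ f : W8, f.e = false →
    (f * gt) * (gb' * f₁) * (f * gt)⁻¹ = gb * f₂ →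
    (f * gt) * (gb * f₂) * (f * gt)⁻¹ = gb' * f₁ → f * gb = gb * f ∧ f * gb' = gb' * f := by
  decide +kernel

theorem swap_image_t₂ : ∀ f₁ : W8, IsF f₁ → ∀ f₂ : W8, IsF f₂ →
    IsDiag (ga' * f₁ * (ga * f₂)) → ∀ f : W8, f.e = false →
    (f * gt) * (ga' * f₁) * (f * gt)⁻¹ = ga * f₂ →
    (f * gt) * (ga * f₂) * (f * gt)⁻¹ = ga' * f₁ → f * ga' = ga' * f ∧ f * ga = ga * f := by
  decide +kernel

theorem swap_image_t₃ : ∀ f : W8, f.e = false → f * ga = ga * f → f * gb = gb * f →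
    f * ga' = ga' * f → f * gb' = gb' * f → (f * gt) * (f * gt) = 1 → IsDiag f := by
  decide +kernel

theorem DiagSwap.map_gt {φ : W8 ≃* W8} (h : DiagSwap φ) : φ gt * gt⁻¹ ∈ diag := by
  set f := φ gt * gt⁻¹ with hf_def
  have he : φ gt = f * gt := (inv_mul_cancel_right _ _).symm
  obtain ⟨c1, c2, c3, c4, c5⟩ := gt_conj
  have hf : f.e = false := by
    have ht : (φ gt).e = true := by
      by_contra hc
      rw [Bool.not_eq_true] at hc
      have := map_base φ.symm (show φ gt ∈ base from hc)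
      rw [MulEquiv.symm_apply_apply] at this
      exact absurd this (by rw [mem_base]; decide)
    rw [he] at ht
    revert ht
    generalize f = y
    revert y
    decide +kernel
  obtain ⟨f₁, hf₁, e₁⟩ := near_eq h.ha
  obtain ⟨f₂, hf₂, e₂⟩ := near_eq h.ha'
  obtain ⟨f₃, hf₃, e₃⟩ := near_eq h.hb
  obtain ⟨f₄, hf₄, e₄⟩ := near_eq h.hb'
  have k : ∀ u v : W8, gt * u * gt⁻¹ = v → (f * gt) * φ u * (f * gt)⁻¹ = φ v := fun u v huv => by
    rw [← he, ← map_inv, ← map_mul, ← map_mul, huv]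
  have hX := h.hX
  have hY := h.hY
  rw [map_mul, e₁, e₂] at hX
  rw [map_mul, e₃, e₄] at hY
  have k1 := k _ _ c1
  have k2 := k _ _ c2
  have k3 := k _ _ c3
  have k4 := k _ _ c4
  rw [e₁, e₂] at k1 k2
  rw [e₃, e₄] at k3 k4
  obtain ⟨a1, a2⟩ := swap_image_t₁ f₁ hf₁ f₂ hf₂ hX f hf k1 k2
  obtain ⟨a3, a4⟩ := swap_image_t₂ f₃ hf₃ f₄ hf₄ hY f hf k3 k4
  exact swap_image_t₃ f hf a4 a1 a3 a2 (by rw [← he, ← map_mul, c5, map_one])

theorem normalize_diag : ∀ q : W8, q.e = false → IsDiag (q * (ga * ga') * q⁻¹) →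
    IsDiag (q * (gb * gb') * q⁻¹) → IsDiag q ∨ IsDiag (gz * q) := by decide +kernel

theorem diag_image : ∀ f₁ : W8, IsF f₁ → ∀ f₂ : W8, IsF f₂ →
    (IsDiag (gb' * f₁ * (gb * f₂)) →
      gb' * f₁ * (gb * f₂) = gb * gb' ∨ gb' * f₁ * (gb * f₂) = gb * gb' * gw) ∧
    (IsDiag (ga' * f₁ * (ga * f₂)) →
      ga' * f₁ * (ga * f₂) = ga * ga' ∨ ga' * f₁ * (ga * f₂) = ga * ga' * gw) := by decide +kernel

theorem fixed_cases : ∀ i : Fin 2, ∀ j : Fin 4,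
    ∀ PX ∈ [gb * gb', gb * gb' * gw], ∀ PY ∈ [ga * ga', ga * ga' * gw],
    gz' * (PX ^ (i : ℕ) * (PX * PY) ^ (j : ℕ)) =
      gz * ((ga * ga') ^ (i : ℕ) * ((ga * ga') * (gb * gb')) ^ (j : ℕ)) →
    PY * (gz * ((ga * ga') ^ (i : ℕ) * ((ga * ga') * (gb * gb')) ^ (j : ℕ))) * (gb * gb') = gz ∨
    PY * (gz * ((ga * ga') ^ (i : ℕ) * ((ga * ga') * (gb * gb')) ^ (j : ℕ))) * (gb * gb') = gz' := by
  decide +kernel

theorem z_facts : (gb * gb') * gz * (gb * gb') = gz ∧ (gb * gb') * gz' * (gb * gb') = gz' ∧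
    gz ≠ gz' ∧ gz * gz = 1 ∧ (gb * gb') * (gb * gb') = 1 := by decide +kernel

theorem DiagSwap.sq_mem_diag {φ : W8 ≃* W8} (h : DiagSwap φ) {q : W8} (hq : q ∈ base)
    (hfix : φ q = q) (hsq : ∀ x, φ (φ x) = q * x * q⁻¹) : q ∈ diag := by
  have hX : q * (ga * ga') * q⁻¹ ∈ diag := by
    rw [← hsq]; exact h.map_diag (h.map_diag (show ga * ga' ∈ diag by rw [mem_diag]; decide +kernel))
  have hY : q * (gb * gb') * q⁻¹ ∈ diag := by
    rw [← hsq]; exact h.map_diag (h.map_diag (show gb * gb' ∈ diag by rw [mem_diag]; decide +kernel))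
  rcases normalize_diag q hq hX hY with hd | hd
  · exact hd
  exfalso
  obtain ⟨z1, z2, z3, z4, z5⟩ := z_facts
  obtain ⟨i, j, hij⟩ := diag_words _ hd
  have hq' : q = gz * ((ga * ga') ^ (i : ℕ) * ((ga * ga') * (gb * gb')) ^ (j : ℕ)) := by
    rw [← hij, ← mul_assoc, z4, one_mul]
  obtain ⟨f₁, hf₁, e₁⟩ := near_eq h.ha
  obtain ⟨f₂, hf₂, e₂⟩ := near_eq h.ha'
  obtain ⟨f₃, hf₃, e₃⟩ := near_eq h.hb
  obtain ⟨f₄, hf₄, e₄⟩ := near_eq h.hb'
  have hPX : φ (ga * ga') ∈ [gb * gb', gb * gb' * gw] := by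
    have hd := h.hX
    rw [map_mul, e₁, e₂] at hd ⊢
    simpa using (diag_image f₁ hf₁ f₂ hf₂).1 hd
  have hPY : φ (gb * gb') ∈ [ga * ga', ga * ga' * gw] := by
    have hd := h.hY
    rw [map_mul, e₃, e₄] at hd ⊢
    simpa using (diag_image f₃ hf₃ f₄ hf₄).2 hd
  have hc := fixed_cases i j _ hPX _ hPY (by
    rw [← h.map_gz, ← map_pow, ← map_mul φ (ga * ga') (gb * gb'), ← map_pow, ← map_mul,
      ← map_mul, ← hq', hfix])
  rw [← hq'] at hc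
  have hY' : φ (φ (gb * gb')) * q = q * (gb * gb') := by rw [hsq, inv_mul_cancel_right]
  have key : φ ((gb * gb') * (φ (gb * gb') * q * (gb * gb')) * (gb * gb')) =
      φ (gb * gb') * q * (gb * gb') := by
    rw [mul_assoc _ _ (gb * gb'), mul_assoc (φ (gb * gb') * q) (gb * gb'), z5, mul_one,
      map_mul φ (gb * gb'), map_mul φ (φ (gb * gb')), hfix, hY', ← mul_assoc]
  have hzz : φ gz' = gz := by
    have e := hsq gz
    rw [h.map_gz] at e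
    rw [e, hq']
    generalize (i : Fin 2) = a
    generalize (j : Fin 4) = b
    revert a b
    decide +kernel
  rcases hc with hc | hc <;> rw [hc] at key
  · rw [z1, h.map_gz] at key; exact z3 key.symm
  · rw [z2, hzz] at key; exact z3 key

end Cfsg.Agent.DEightWreath.W8
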